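import Groth.Agent.CurveEmbed.Points
import Groth.Agent.H23.RatExtend

/-! Curves with the same function field. -/

noncomputable section

set_option linter.style.haveILetI false
set_option linter.unusedSectionVars false
set_option backward.isDefEq.respectTransparency false
set_option backward.isDefEq.respectTransparency.types false

universe u

open CategoryTheory CategoryTheory.Limits AlgebraicGeometry TopologicalSpace Opposite

namespace Groth.Agent.CurveLuroth

variable {k : Type u} [Field k]

/-- The constants of the function field. -/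
def ffC {X : Scheme.{u}} [IrreducibleSpace X] (f : X ⟶ Spec (CommRingCat.of k)) :
    CommRingCat.of k ⟶ X.functionField :=
  Spec.preimage (X.fromSpecStalk (genericPoint X) ≫ f)

theorem spec_ffC {X : Scheme.{u}} [IrreducibleSpace X] (f : X ⟶ Spec (CommRingCat.of k)) :
    Spec.map (ffC f) = X.fromSpecStalk (genericPoint X) ≫ f :=
  Spec.map_preimage _

/-- Pulling back functions along a map that preserves generic points. -/
theorem exists_pull {X Y : Scheme.{u}} [IrreducibleSpace X] [IrreducibleSpace Y]
    (f : X ⟶ Spec (CommRingCat.of k)) (g : Y ⟶ X) (hg : g (genericPoint Y) = genericPoint X) :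
    ∃ u : X.functionField ⟶ Y.functionField, ffC f ≫ u = ffC (g ≫ f) ∧
      (IsOpenImmersion g → IsIso u) := by
  refine ⟨X.presheaf.stalkSpecializes (specializes_of_eq hg) ≫ g.stalkMap (genericPoint Y), ?_, fun _ => ?_⟩
  · apply Spec.map_injective
    rw [spec_ffC]
    simp only [Spec.map_comp, Category.assoc, spec_ffC]
    rw [Scheme.SpecMap_stalkSpecializes_fromSpecStalk_assoc,
      Scheme.SpecMap_stalkMap_fromSpecStalk_assoc]
  · haveI : IsIso (X.presheaf.stalkSpecializes (specializes_of_eq hg)) := by
      revert hg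
      generalize g (genericPoint Y) = z
      rintro rfl
      rw [TopCat.Presheaf.stalkSpecializes_refl]
      infer_instance
    exact IsIso.comp_isIso' inferInstance inferInstance

/-- Curves with regular local rings are determined by their function fields. -/
theorem exists_iso_of_functionField {X Y : Scheme.{u}} [IsIntegral X] [IsIntegral Y]
    (f : X ⟶ Spec (CommRingCat.of k)) (g : Y ⟶ Spec (CommRingCat.of k)) [IsProper f] [IsProper g]
    (hX : ∀ x : X, ValuationRing (X.presheaf.stalk x)) (hY : ∀ y : Y, ValuationRing (Y.presheaf.stalk y))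
    (φ : X.functionField ≅ Y.functionField) (hφ : ffC f ≫ φ.hom = ffC g) :
    ∃ e : X ≅ Y, e.hom ≫ g = f := by
  have key : ∀ {A B : Scheme.{u}} [IsIntegral A] [IsIntegral B] (a : A ⟶ Spec (CommRingCat.of k))
      (b : B ⟶ Spec (CommRingCat.of k)) [IsProper a] (_ : ∀ y : B, ValuationRing (B.presheaf.stalk y))
      (ψ : A.functionField ⟶ B.functionField), ffC a ≫ ψ = ffC b →
      ∃ H : B ⟶ A, H ≫ a = b ∧
        B.fromSpecStalk (genericPoint B) ≫ H = Spec.map ψ ≫ A.fromSpecStalk (genericPoint A) := by
    intro A B _ _ a b _ hB ψ hψ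
    haveI : A.IsSeparated := ⟨by rw [← Limits.terminal.comp_from a]; infer_instance⟩
    have h₀ : (Spec.map ψ ≫ A.fromSpecStalk (genericPoint A)) ≫ a = B.fromSpecStalk _ ≫ b := by
      rw [Category.assoc, ← spec_ffC, ← Spec.map_comp, hψ, spec_ffC]
    obtain ⟨W, hW, H, hsub, hH, hH'⟩ := H23.RatExtend.extend b a _ h₀ Set.univ
      fun p _ => H23.RatExtend.exists_lift b a _ h₀ p (hB p)
    haveI : IsIso W.ι := by
      have : Surjective W.ι := ⟨fun y => ⟨⟨y, hsub trivial⟩, rfl⟩⟩
      exact (isIso_iff_isOpenImmersion_and_surjective _).2 ⟨inferInstance, this⟩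
    refine ⟨inv W.ι ≫ H, by rw [Category.assoc, hH, IsIso.inv_hom_id_assoc], ?_⟩
    rw [← hH', ← Scheme.Opens.fromSpecStalkOfMem_ι W (genericPoint B) hW, Category.assoc,
      IsIso.hom_inv_id_assoc]
  obtain ⟨F, hF, hF'⟩ := key f g hY φ.hom hφ
  obtain ⟨G, hG, hG'⟩ := key g f hX φ.inv (by rw [← hφ, Category.assoc, φ.hom_inv_id, Category.comp_id])
  haveI : X.IsSeparated := ⟨by rw [← Limits.terminal.comp_from f]; infer_instance⟩
  haveI : Y.IsSeparated := ⟨by rw [← Limits.terminal.comp_from g]; infer_instance⟩
  refine ⟨⟨G, F, ?_, ?_⟩, hG⟩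
  · haveI := H23.RatExtend.isDominant_fromSpecStalk (X := X)
    refine ext_of_isDominant (X.fromSpecStalk (genericPoint X)) ?_
    rw [reassoc_of% hG', hF', ← Spec.map_comp_assoc, φ.hom_inv_id, Spec.map_id, Category.id_comp,
      Category.comp_id]
  · haveI := H23.RatExtend.isDominant_fromSpecStalk (X := Y)
    refine ext_of_isDominant (Y.fromSpecStalk (genericPoint Y)) ?_
    rw [reassoc_of% hF', hG', ← Spec.map_comp_assoc, φ.inv_hom_id, Spec.map_id, Category.id_comp,
      Category.comp_id]

/-- The local rings of a normal curve are valuation rings. -/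
theorem valuationRing_stalk {X : Scheme.{u}} [X.Over (Spec (CommRingCat.of k))] [IsIntegral X]
    [IsProper (X ↘ Spec (CommRingCat.of k))] (hdim : topologicalKrullDim X = 1)
    (hn : ∀ x : X, IsClosed ({x} : Set X) → IsIntegrallyClosed (X.presheaf.stalk x)) (x : X) :
    ValuationRing (X.presheaf.stalk x) := by
  haveI := CurveCohLib.isNoetherian_of_proper (k := k) (X := X)
  by_cases hx : IsClosed ({x} : Set X)
  · haveI := CurveEmbed.isDVR_of_normal k hdim hx (hn x hx)
    infer_instance
  · rw [CurveCohLib.eq_genericPoint_of_not_isClosed hdim hx]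
    show ValuationRing X.functionField
    infer_instance

end Groth.Agent.CurveLuroth
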