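import Groth.Agent.CurveLuroth.FF
import Groth.Agent.CurveEmbed.Conic
import Mathlib.FieldTheory.RatFunc.Luroth

/-! Curves whose function field embeds in the rational function field. -/

noncomputable section

set_option linter.style.haveILetI false
set_option linter.unusedSectionVars false
set_option backward.isDefEq.respectTransparency false
set_option backward.isDefEq.respectTransparency.types false

universe u

open CategoryTheory CategoryTheory.Limits AlgebraicGeometry TopologicalSpace Opposite

namespace Groth.Agent.CurveLuroth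

variable (k : Type u) [Field k]

/-- The constants of the rational function field. -/
def ratC : CommRingCat.of k ⟶ CommRingCat.of (RatFunc k) :=
  CommRingCat.ofHom (algebraMap k (RatFunc k))

/-- The function field of the affine line. -/
theorem exists_iso_affine_line :
    ∃ θ : (Spec (CommRingCat.of (Polynomial k))).functionField ≅ CommRingCat.of (RatFunc k),
      ffC (Spec.map (CommRingCat.ofHom (Polynomial.C : k →+* Polynomial k))) ≫ θ.hom = ratC k := by
  let R := CommRingCat.of (Polynomial k)
  haveI : IsDomain R := inferInstanceAs (IsDomain (Polynomial k))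
  let K := (Spec R).functionField
  letI : Algebra (Polynomial k) K :=
    (StructureSheaf.toStalk R (genericPoint (Spec R))).hom.toAlgebra
  haveI : IsFractionRing (Polynomial k) K := functionField_isFractionRing_of_affine R
  let e : K ≃ₐ[Polynomial k] RatFunc k := IsLocalization.algEquiv (nonZeroDivisors (Polynomial k)) _ _
  refine ⟨e.toRingEquiv.toCommRingCatIso, ?_⟩
  have hc : ffC (Spec.map (CommRingCat.ofHom (Polynomial.C : k →+* Polynomial k))) =
      CommRingCat.ofHom (Polynomial.C : k →+* Polynomial k) ≫ CommRingCat.ofHom (algebraMap (Polynomial k) K) := by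
    apply Spec.map_injective
    rw [spec_ffC, Spec.map_comp, Spec.fromSpecStalk_eq']
    rfl
  rw [hc]
  refine CommRingCat.hom_ext (RingHom.ext fun c => ?_)
  refine (e.commutes (Polynomial.C c)).trans ?_
  show algebraMap (Polynomial k) (RatFunc k) (Polynomial.C c) = algebraMap k (RatFunc k) c
  rw [IsScalarTower.algebraMap_apply k (Polynomial k) (RatFunc k), Polynomial.algebraMap_eq]

/-- The function field of the projective line. -/
theorem exists_iso_line_field :
    letI := H23.PnChart.isIntegral_projSpace 1 k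
    ∃ θ : (CohB1.ProjSpace 1 k).functionField ≅ CommRingCat.of (RatFunc k),
      ffC (CohB1.ProjSpace.toSpec 1 k) ≫ θ.hom = ratC k := by
  letI := H23.PnChart.isIntegral_projSpace 1 k
  let i : Fin (1 + 1) := 0
  haveI : Subsingleton (H23.PnChart.Idx.{u} 1 i) :=
    ⟨fun a b => ULift.ext _ _ (Subtype.ext (Fin.ext (by
      have ha := a.down.2; have hb := b.down.2
      simp only [ne_eq, Fin.ext_iff, i, Fin.val_zero] at ha hb
      omega)))⟩
  letI : Unique (H23.PnChart.Idx.{u} 1 i) := uniqueOfSubsingleton ⟨⟨1, by decide⟩⟩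
  let e := (RingEquiv.ofBijective (H23.PnChart.fromChart.{u} 1 k i) ⟨H23.PnChart.fromChart_injective 1 k i,
    H23.PnChart.fromChart_surjective 1 k i⟩).symm.trans (MvPolynomial.uniqueAlgEquiv k (H23.PnChart.Idx.{u} 1 i)).toRingEquiv
  let g : Spec (CommRingCat.of (Polynomial k)) ⟶ CohB1.ProjSpace 1 k :=
    Spec.map e.toCommRingCatIso.hom ≫ ZetaLib.chart 1 k i
  have hg : g ≫ CohB1.ProjSpace.toSpec 1 k = Spec.map (CommRingCat.ofHom (Polynomial.C : k →+* Polynomial k)) := by
    rw [Category.assoc, ZetaLib.chart_toSpec, ← Spec.map_comp]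
    congr 1
    refine CommRingCat.hom_ext (RingHom.ext fun c => ?_)
    show MvPolynomial.uniqueAlgEquiv k _ ((RingEquiv.ofBijective (H23.PnChart.fromChart.{u} 1 k i) _).symm (ZetaLib.base 1 k i c)) = _
    have h : ZetaLib.base 1 k i c = H23.PnChart.fromChart.{u} 1 k i (MvPolynomial.C c) :=
      (MvPolynomial.eval₂Hom_C _ _ c).symm
    rw [h]
    refine (congrArg _ ((RingEquiv.ofBijective (H23.PnChart.fromChart.{u} 1 k i) _).symm_apply_apply
      (MvPolynomial.C c))).trans ?_
    exact MvPolynomial.eval₂_C _ _ c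
  obtain ⟨u, hu, hiso⟩ := exists_pull (CohB1.ProjSpace.toSpec 1 k) g (genericPoint_eq_of_isOpenImmersion g)
  haveI := hiso inferInstance
  obtain ⟨θ, hθ⟩ := exists_iso_affine_line k
  refine ⟨asIso u ≪≫ θ, ?_⟩
  rw [Iso.trans_hom, asIso_hom, reassoc_of% hu, hg, hθ]

variable {X : Scheme.{u}} [X.Over (Spec (CommRingCat.of k))] [IsIntegral X]
  [IsProper (X ↘ Spec (CommRingCat.of k))]

/-- A normal curve with function field inside the rational functions is the projective line. -/
theorem exists_iso_line_of_embedding (hdim : topologicalKrullDim X = 1)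
    (hn : ∀ x : X, IsClosed ({x} : Set X) → IsIntegrallyClosed (X.presheaf.stalk x))
    (v : X.functionField ⟶ CommRingCat.of (RatFunc k))
    (hv : ffC (X ↘ Spec (CommRingCat.of k)) ≫ v = ratC k) :
    ∃ e : X ≅ CohB1.ProjSpace 1 k,
      e.hom ≫ CohB1.ProjSpace.toSpec 1 k = X ↘ Spec (CommRingCat.of k) := by
  let f := X ↘ Spec (CommRingCat.of k)
  letI : Algebra k X.functionField := (ffC f).hom.toAlgebra
  let w : X.functionField →ₐ[k] RatFunc k :=
    { v.hom with commutes' := fun c => congr(($hv).hom c) }
  have hne : w.fieldRange ≠ ⊥ := fun h => by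
    have hs : Function.Surjective (ffC f) := fun y => by
      obtain ⟨c, hc⟩ := IntermediateField.mem_bot.1 (show w y ∈ (⊥ : IntermediateField k (RatFunc k)) by rw [← h]; exact ⟨y, rfl⟩)
      exact ⟨c, w.injective ((w.commutes c).trans hc)⟩
    haveI : IsIso (ffC f) :=
      (ConcreteCategory.isIso_iff_bijective (ffC f)).2 ⟨(ffC f).hom.injective, hs⟩
    let s := Spec.map (inv (ffC f)) ≫ X.fromSpecStalk (genericPoint X)
    have hsf : s ≫ f = 𝟙 _ := by
      rw [Category.assoc, ← spec_ffC, ← Spec.map_comp, IsIso.hom_inv_id, Spec.map_id]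
    haveI : IsClosedImmersion s := by
      haveI : IsClosedImmersion (s ≫ f) := by rw [hsf]; infer_instance
      exact IsClosedImmersion.of_comp s f
    haveI : Subsingleton (Spec (CommRingCat.of k)) := inferInstanceAs (Subsingleton (PrimeSpectrum k))
    have hr : Set.range s = {genericPoint X} := by
      refine Set.eq_singleton_iff_unique_mem.2 ⟨?_, ?_⟩
      · refine ⟨Spec.map (ffC f) (IsLocalRing.closedPoint X.functionField), ?_⟩
        show (Spec.map (ffC f) ≫ s) (IsLocalRing.closedPoint X.functionField) = _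
        rw [← Spec.map_comp_assoc, IsIso.inv_hom_id, Spec.map_id, Category.id_comp]
        exact Scheme.fromSpecStalk_closedPoint
      · rintro _ ⟨a, rfl⟩
        show X.fromSpecStalk (genericPoint X) (Spec.map (inv (ffC f)) a) = _
        haveI : Subsingleton (Spec X.functionField) := inferInstanceAs (Subsingleton (PrimeSpectrum X.functionField))
        rw [Subsingleton.elim (Spec.map (inv (ffC f)) a) (IsLocalRing.closedPoint X.functionField)]
        exact Scheme.fromSpecStalk_closedPoint
    exact CurveEmbed.genericPoint_not_closed hdim (hr ▸ s.isClosedEmbedding.isClosed_range)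
  let e : X.functionField ≃ₐ[k] RatFunc k :=
    (AlgEquiv.ofInjectiveField w).trans (RatFunc.Luroth.algEquiv hne).symm
  letI := H23.PnChart.isIntegral_projSpace 1 k
  obtain ⟨θ, hθ⟩ := exists_iso_line_field k
  haveI : IsProper (CohB1.ProjSpace.toSpec 1 k) := PnCoh.Chow.isProper_toSpec 1 k
  letI : (CohB1.ProjSpace 1 k).Over (Spec (CommRingCat.of k)) := ⟨CohB1.ProjSpace.toSpec 1 k⟩
  haveI : IsProper ((CohB1.ProjSpace 1 k) ↘ Spec (CommRingCat.of k)) :=
    PnCoh.Chow.isProper_toSpec 1 k
  have hP : topologicalKrullDim ↥(CohB1.ProjSpace 1 k) = 1 := by simpa using S10829.result k 1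
  have hs : Smooth ((CohB1.ProjSpace 1 k) ↘ Spec (CommRingCat.of k)) := CurveEmbed.smooth_toSpec 1 k
  refine exists_iso_of_functionField f (CohB1.ProjSpace.toSpec 1 k) (valuationRing_stalk (k := k) hdim hn)
    (valuationRing_stalk (k := k) hP fun y hy => CurveEmbed.isIntegrallyClosed_of_smooth k hP hy ?_)
    (e.toRingEquiv.toCommRingCatIso ≪≫ θ.symm) ?_
  · rw [(Scheme.Hom.smoothLocus_eq_top_iff (f := (CohB1.ProjSpace 1 k) ↘ Spec (CommRingCat.of k))).2 hs]
    trivial
  · rw [Iso.trans_hom, Iso.symm_hom, ← Category.assoc, Iso.comp_inv_eq, hθ]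
    exact CommRingCat.hom_ext (RingHom.ext fun c => e.commutes c)

end Groth.Agent.CurveLuroth
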